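import Cfsg.Agent.D4Spec69.Code
import Cfsg.Agent.D4Spec69.Data
import Cfsg.Agent.Lib.UnitaryOrthogonal.AdjointD4

/-!
The finite checks on the codes of `³D₄(2)` (helper69).
-/

set_option autoImplicit false

namespace Cfsg.Agent.D4Spec69

open Cfsg.Lie Cfsg.Agent.UnitaryOrthogonal.Adjoint

/-- Entries of the root element `1 + c N_r`. -/
def rootE (r : Fin chevD4.nroots) (c i k : ℕ) : ℕ :=
  (if i = k then 1 else 0) ^^^
    ((if i = idx (d4Pair r).2.1 ∧ k = idx (d4Pair r).1.swap then c else 0) ^^^
      (if i = idx (d4Pair r).1 ∧ k = idx (d4Pair r).2.1.swap then c else 0))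

/-- The root of a number. -/
def root (r : ℕ) : Fin chevD4.nroots := ⟨r % 24, Nat.mod_lt r (by decide)⟩

/-- The words of the eight generators. -/
def genWords : List (List (ℕ × ℕ)) :=
  [[(14, 1)], [(9, 1)],
    [(18, 1), (13, 1), (12, 1)], [(18, 2), (13, 4), (12, 6)], [(18, 4), (13, 6), (12, 2)],
    [(5, 1), (10, 1), (11, 1)], [(5, 2), (10, 4), (11, 6)], [(5, 4), (10, 6), (11, 2)]]

/-- The code of a product. -/
def prodC (l : List (List ℕ)) : List ℕ := l.foldr mulC oneC

/-- The code of a generator. -/
def genC (s : ℕ) : List ℕ :=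
  prodC ((genWords.getD s []).map fun p => encC (rootE (root p.1) p.2))

/-- The code of a word in the generators. -/
def wordC (w : List ℕ) : List ℕ := prodC (w.map genC)

/-- The code of a power. -/
def powC (A : List ℕ) : ℕ → List ℕ
  | 0 => oneC
  | n + 1 => mulC (powC A n) A

/-- The code of a diagonal matrix. -/
def diagC (D : List ℕ) : List ℕ := encC fun i k => if i = k then D.getD i 0 % 8 else 0

/-- The entries of a code. -/
def decC (A : List ℕ) (i k : ℕ) : ℕ := A.getD (3 * i) 0 / 2 ^ (3 * k) % 8

/-- `A` is the code of some matrix. -/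
def isCode (A : List ℕ) : Bool := encC (decC A) == A

/-- `A` is a code of a non-identity matrix. -/
def nonOne (A : List ℕ) : Bool := okC A && A != oneC

/-- The code of the idempotent of rank `r`. -/
def idemC (r : ℕ) : List ℕ := encC fun i k => if i = k ∧ i < r then 1 else 0

/-- `L` lists the subgroup generated by two codes. -/
def checkList (L : List (List ℕ)) (g0 g1 : List ℕ) (par : List (ℕ × ℕ)) (step : List (List ℕ)) : Bool :=
  L.getD 0 [] == oneC && decide L.Nodup && L.all okC &&
    (List.range L.length).all (fun i =>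
      mulC (L.getD i []) g0 == L.getD ((step.getD i []).getD 0 0) [] &&
      mulC (L.getD i []) g1 == L.getD ((step.getD i []).getD 1 0) [] &&
      decide ((step.getD i []).getD 0 0 < L.length) && decide ((step.getD i []).getD 1 0 < L.length) &&
      (i == 0 || (decide ((par.getD i (0, 0)).1 < i) && decide ((par.getD i (0, 0)).2 < 2) &&
        (step.getD (par.getD i (0, 0)).1 []).getD (par.getD i (0, 0)).2 0 == i)))

/-- The rank of `A - 1` is large. -/
def checkRank (A L R : List ℕ) (r : ℕ) : Bool :=
  A == oneC || (isCode L && isCode R && mulC (mulC L (addC A oneC)) R == idemC r && decide (4 ≤ r ∧ r ≤ 8) &&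
    (r == 8 || powC A 3 == oneC))

/-- The conditions on the eigenvalues. -/
def diagOK (D : List ℕ) : Bool :=
  decide (∀ i ∈ List.range 8, 1 ≤ D.getD i 0 ∧ D.getD i 0 < 8) &&
    (decide (∀ i ∈ List.range 8, D.getD i 0 ≠ 1) ||
      (decide (((List.range 8).filter fun i => decide (D.getD i 0 = 1)).length ≤ 2) &&
        decide (∀ i ∈ List.range 8, ∀ j ∈ List.range 8, D.getD i 0 ≠ 1 → D.getD i 0 = D.getD j 0 → i = j)))

/-- `A` is diagonalised by `P`, with suitable eigenvalues. -/
def checkDiag (A P D : List ℕ) : Bool :=
  A == oneC || (mulC A P == mulC P (diagC D) && diagOK D)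

open Data

theorem list3 : checkList elems3 (wordC (words3.getD 0 [])) (wordC (words3.getD 1 [])) parent3 step3 = true := by
  decide +kernel

theorem list7 : checkList elems7 (wordC (words7.getD 0 [])) (wordC (words7.getD 1 [])) parent7 step7 = true := by
  decide +kernel

theorem elems3_length : elems3.length = 81 := by decide +kernel

theorem elems7_length : elems7.length = 49 := by decide +kernel

theorem rank3 : ((List.range 81).all fun i =>
    checkRank (elems3.getD i []) (cert3.getD i ([], [], 0)).1 (cert3.getD i ([], [], 0)).2.1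
      (cert3.getD i ([], [], 0)).2.2) = true := by
  decide +kernel

theorem diag7_ok : ((List.range 49).all fun i =>
    checkDiag (elems7.getD i []) eigen7 (diag7.getD i [])) = true := by
  decide +kernel

theorem eigen7_inv : (isCode eigen7 && isCode eigen7Inv && mulC eigen7Inv eigen7 == oneC) = true := by decide +kernel

theorem elt13 : (isCode left13 && isCode right13 && powC (wordC [0, 1, 3, 7]) 13 == oneC &&
    mulC (mulC left13 (addC (wordC [0, 1, 3, 7]) oneC)) right13 == idemC 8) = true := by
  decide +kernel

theorem elt8 : (powC (wordC [0, 2]) 8 == oneC && nonOne (powC (wordC [0, 2]) 4)) = true := by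
  decide +kernel

theorem elt12 : (powC (wordC [0, 2, 5]) 12 == oneC && nonOne (powC (wordC [0, 2, 5]) 6) &&
    nonOne (powC (wordC [0, 2, 5]) 4)) = true := by
  decide +kernel

theorem elt28 : (powC (wordC [0, 3, 7]) 28 == oneC && nonOne (powC (wordC [0, 3, 7]) 14) &&
    nonOne (powC (wordC [0, 3, 7]) 4)) = true := by
  decide +kernel

end Cfsg.Agent.D4Spec69
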