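import Mathlib

/-!
`8 × 8` matrices over the field with eight elements as 24 rows of 24 bits (helper69).

The field is written on the basis `1, α, α²` with `α³ = α + 1`; the rows `3i + j` of a code hold `α^j` times
the row `i` of the matrix, so that a product is a series of exclusive ors.
-/

set_option autoImplicit false

namespace Cfsg.Agent.D4Spec69

open Finset

/-- The index set of the natural module. -/
abbrev V4 : Type := Fin 4 ⊕ Fin 4

/-- The position of an index. -/
def idx : V4 → ℕ
  | .inl i => i.val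
  | .inr i => 4 + i.val

/-- The index at a position. -/
def unidx (k : ℕ) : V4 :=
  if k < 4 then .inl (Fin.ofNat 4 k) else .inr (Fin.ofNat 4 (k - 4))

theorem idx_lt : ∀ i : V4, idx i < 8 := by decide

theorem idx_inj : ∀ i j : V4, idx i = idx j → i = j := by decide

theorem unidx_idx : ∀ i : V4, unidx (idx i) = i := by decide

theorem idx_unidx : ∀ k < 8, idx (unidx k) = k := by decide

/-- Product of a row with a code. -/
def rowMul : ℕ → List ℕ → ℕ
  | _, [] => 0
  | r, b :: bs => (cond (r.testBit 0) b 0) ^^^ rowMul (r / 2) bs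

/-- Product of two codes. -/
def mulC (A B : List ℕ) : List ℕ := A.map fun r => rowMul r B

/-- The code of the identity. -/
def oneC : List ℕ := (List.range 24).map fun t => 2 ^ t

/-- Sum of two codes. -/
def addC (A B : List ℕ) : List ℕ := List.zipWith (· ^^^ ·) A B

/-- Multiplication by `α`. -/
def mulX (c : ℕ) : ℕ := if c.testBit 2 then (c * 2) ^^^ 11 else c * 2

/-- Multiplication by `α^j`. -/
def mulXPow : ℕ → ℕ → ℕ
  | 0, c => c
  | j + 1, c => mulX (mulXPow j c)

/-- The code of a row. -/
def encRow (f : ℕ → ℕ) : ℕ :=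
  (f 0 <<< 0) ^^^ (f 1 <<< 3) ^^^ (f 2 <<< 6) ^^^ (f 3 <<< 9) ^^^
    (f 4 <<< 12) ^^^ (f 5 <<< 15) ^^^ (f 6 <<< 18) ^^^ (f 7 <<< 21)

/-- The code of the matrix with entries `E`. -/
def encC (E : ℕ → ℕ → ℕ) : List ℕ :=
  (List.range 24).map fun t => encRow fun k => mulXPow (t % 3) (E (t / 3) k)

/-- A code has 24 rows of 24 bits. -/
def okC (A : List ℕ) : Bool := A.length == 24 && A.all fun r => decide (r < 2 ^ 24)

variable {K : Type*} [Field K] (α : K)

/-- The field element with given bits. -/
noncomputable def co (c : ℕ) : K := ∑ j ∈ range 3, if c.testBit j then α ^ j else 0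

/-- The vector of a row. -/
noncomputable def val (r : ℕ) (l : V4) : K :=
  ∑ j ∈ range 3, if r.testBit (3 * idx l + j) then α ^ j else 0

/-- `A` is a code of `M`. -/
def Rep (A : List ℕ) (M : Matrix V4 V4 K) : Prop :=
  A.length = 24 ∧ ∀ i, ∀ j < 3, val α (A.getD (3 * idx i + j) 0) = α ^ j • M i

theorem co_zero : co α 0 = 0 := by simp [co]

theorem co_one : co α 1 = 1 := by simp [co, sum_range_succ, Nat.testBit]

theorem val_zero : val α 0 = 0 := funext fun l => by simp [val]

theorem val_eq_co (r : ℕ) (l : V4) : val α r l = co α ((r / 2 ^ (3 * idx l)) % 2 ^ 3) := by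
  refine sum_congr rfl fun j hj => ?_
  rw [Nat.testBit_mod_two_pow, Nat.testBit_div_two_pow, add_comm j, decide_eq_true (mem_range.1 hj),
    Bool.true_and]

theorem sum24 {M : Type*} [AddCommMonoid M] (F : ℕ → M) :
    ∑ t ∈ range 24, F t = ∑ i : V4, ∑ j ∈ range 3, F (3 * idx i + j) := by
  simp only [sum_range_succ, Finset.sum_range_zero, Fintype.sum_sum_type, Fin.sum_univ_four, idx,
    zero_add]
  norm_num
  abel

section CharTwo

variable [CharP K 2]

theorem ite_xor (a b : Bool) (x : K) :
    (if (a ^^ b) then x else 0) = (if a then x else 0) + (if b then x else 0) := by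
  cases a <;> cases b <;> simp [CharTwo.add_self_eq_zero]

theorem co_xor (a b : ℕ) : co α (a ^^^ b) = co α a + co α b := by
  simp only [co, ← sum_add_distrib, Nat.testBit_xor, ite_xor]

theorem val_xor (a b : ℕ) : val α (a ^^^ b) = val α a + val α b := funext fun l => by
  simp only [val, Pi.add_apply, ← sum_add_distrib, Nat.testBit_xor, ite_xor]

theorem val_rowMul (B : List ℕ) : ∀ r : ℕ, val α (rowMul r B) =
    ∑ t ∈ range B.length, if r.testBit t then val α (B.getD t 0) else 0 := by
  induction B with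
  | nil => intro r; simp [rowMul, val_zero]
  | cons b bs ih =>
    intro r
    rw [rowMul, val_xor, ih, List.length_cons, sum_range_succ', add_comm]
    congr 1
    · refine sum_congr rfl fun t _ => ?_
      rw [Nat.testBit_succ, List.getD_cons_succ]
    · cases r.testBit 0 <;> simp [val_zero]

theorem val_rowMul_eq {B : List ℕ} {N : Matrix V4 V4 K} (hB : Rep α B N) (r : ℕ) :
    val α (rowMul r B) = Matrix.vecMul (val α r) N := by
  rw [val_rowMul, hB.1, sum24]
  funext l
  simp only [Finset.sum_apply, Matrix.vecMul, dotProduct, val, sum_mul]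
  refine sum_congr rfl fun i _ => sum_congr rfl fun j hj => ?_
  by_cases h : r.testBit (3 * idx i + j)
  · rw [if_pos h, if_pos h]
    exact congrFun (hB.2 i j (mem_range.1 hj)) l
  · rw [if_neg h, if_neg h, zero_mul, Pi.zero_apply]

variable {α}

theorem Rep.mul {A B : List ℕ} {M N : Matrix V4 V4 K} (hA : Rep α A M) (hB : Rep α B N) :
    Rep α (mulC A B) (M * N) := by
  refine ⟨by rw [mulC, List.length_map, hA.1], fun i j hj => ?_⟩
  have hlt : 3 * idx i + j < A.length := by rw [hA.1]; have := idx_lt i; omega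
  have he := hA.2 i j hj
  rw [List.getD_eq_getElem _ _ hlt] at he
  rw [mulC, List.getD_eq_getElem _ _ (by rwa [List.length_map]), List.getElem_map, val_rowMul_eq α hB, he,
    Matrix.smul_vecMul]
  rfl

theorem Rep.add {A B : List ℕ} {M N : Matrix V4 V4 K} (hA : Rep α A M) (hB : Rep α B N) :
    Rep α (addC A B) (M + N) := by
  have hl : (addC A B).length = 24 := by rw [addC, List.length_zipWith, hA.1, hB.1]; rfl
  refine ⟨hl, fun i j hj => ?_⟩
  have hlt : 3 * idx i + j < 24 := by have := idx_lt i; omega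
  have hea := hA.2 i j hj
  have heb := hB.2 i j hj
  rw [List.getD_eq_getElem _ _ (hA.1.symm ▸ hlt)] at hea
  rw [List.getD_eq_getElem _ _ (hB.1.symm ▸ hlt)] at heb
  rw [List.getD_eq_getElem _ _ (hl.symm ▸ hlt)]
  simp only [addC, List.getElem_zipWith]
  rw [val_xor, hea, heb, ← smul_add]
  rfl

end CharTwo

variable {α}

theorem Rep.one : Rep α oneC (1 : Matrix V4 V4 K) := by
  refine ⟨by simp [oneC], fun i j hj => ?_⟩
  have hlt : 3 * idx i + j < 24 := by have := idx_lt i; omega
  rw [List.getD_eq_getElem _ _ (by simpa [oneC] using hlt)]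
  simp only [oneC, List.getElem_map, List.getElem_range]
  funext l
  simp only [val, Nat.testBit_two_pow, Pi.smul_apply, smul_eq_mul, decide_eq_true_eq]
  by_cases h : i = l
  · subst h
    rw [Matrix.one_apply_eq, mul_one, sum_eq_single j (fun b _ hb => if_neg (by omega))
      (fun hb => absurd (mem_range.2 hj) hb), if_pos rfl]
  · rw [Matrix.one_apply_ne h, mul_zero]
    refine sum_eq_zero fun b hb => if_neg fun e => h (idx_inj i l ?_)
    have := mem_range.1 hb
    omega

theorem Rep.unique {A : List ℕ} {M N : Matrix V4 V4 K} (hM : Rep α A M) (hN : Rep α A N) : M = N := by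
  refine funext fun i => ?_
  have h := (hM.2 i 0 (by omega)).symm.trans (hN.2 i 0 (by omega))
  simpa using h

theorem mulX_lt : ∀ c < 8, mulX c < 8 := by decide

section Alpha

variable [CharP K 2] (hα : α ^ 3 = α + 1)
include hα

theorem co_mulX : ∀ c < 8, co α (mulX c) = α * co α c := by
  intro c hc
  have h2 : (2 : K) = 0 := CharTwo.two_eq_zero
  interval_cases c <;> simp [mulX, co, sum_range_succ, Nat.testBit, Nat.shiftRight_eq_div_pow] <;>
    first
      | ring1
      | linear_combination -hα
      | linear_combination -hα - α * h2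

theorem co_mulXPow (c : ℕ) (hc : c < 8) : ∀ j, mulXPow j c < 8 ∧ co α (mulXPow j c) = α ^ j * co α c
  | 0 => ⟨hc, by simp [mulXPow]⟩
  | j + 1 => by
    obtain ⟨h1, h2⟩ := co_mulXPow c hc j
    refine ⟨mulX_lt _ h1, ?_⟩
    rw [mulXPow, co_mulX hα _ h1, h2, pow_succ']
    ring

omit [CharP K 2] hα in
theorem val_shl {c k : ℕ} (hc : c < 8) (l : V4) :
    val α (c <<< (3 * k)) l = if idx l = k then co α c else 0 := by
  simp only [val, co, Nat.testBit_shiftLeft, Bool.and_eq_true, decide_eq_true_eq]
  by_cases h : idx l = k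
  · rw [if_pos h, h]
    refine sum_congr rfl fun j _ => ?_
    rw [Nat.add_sub_cancel_left]
    simp
  · rw [if_neg h]
    refine sum_eq_zero fun j hj => if_neg fun ⟨hle, hb⟩ => ?_
    have hj' := mem_range.1 hj
    have hlt : c < 2 ^ (3 * idx l + j - 3 * k) :=
      lt_of_lt_of_le (show c < 2 ^ 3 from hc) (Nat.pow_le_pow_right (by omega) (by omega))
    rw [Nat.testBit_lt_two_pow hlt] at hb
    exact absurd hb (by decide)

omit hα in
theorem val_encRow (f : ℕ → ℕ) (hf : ∀ k, f k < 8) (l : V4) : val α (encRow f) l = co α (f (idx l)) := by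
  unfold encRow
  simp only [val_xor, Pi.add_apply]
  rw [show (0 : ℕ) = 3 * 0 from rfl, val_shl (hf _), show (3 : ℕ) = 3 * 1 from rfl, val_shl (hf _),
    show (6 : ℕ) = 3 * 2 from rfl, val_shl (hf _), show (9 : ℕ) = 3 * 3 from rfl, val_shl (hf _),
    show (12 : ℕ) = 3 * 4 from rfl, val_shl (hf _), show (15 : ℕ) = 3 * 5 from rfl, val_shl (hf _),
    show (18 : ℕ) = 3 * 6 from rfl, val_shl (hf _), show (21 : ℕ) = 3 * 7 from rfl, val_shl (hf _)]
  rcases l with i | i <;> fin_cases i <;> simp [idx]

theorem Rep.enc {E : ℕ → ℕ → ℕ} (hE : ∀ i k, E i k < 8) :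
    Rep α (encC E) (Matrix.of fun i l => co α (E (idx i) (idx l))) := by
  refine ⟨by simp [encC], fun i j hj => ?_⟩
  have hlt : 3 * idx i + j < 24 := by have := idx_lt i; omega
  rw [List.getD_eq_getElem _ _ (by simpa [encC] using hlt)]
  simp only [encC, List.getElem_map, List.getElem_range]
  rw [show (3 * idx i + j) % 3 = j by omega, show (3 * idx i + j) / 3 = idx i by omega]
  funext l
  rw [val_encRow _ (fun k => (co_mulXPow hα _ (hE _ k) j).1), (co_mulXPow hα _ (hE _ _) j).2]
  rfl

theorem bits_zero {b : ℕ → Bool} (h : (∑ j ∈ range 3, if b j then α ^ j else 0) = 0) :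
    ∀ j < 3, b j = false := by
  have h2 : (2 : K) = 0 := CharTwo.two_eq_zero
  have a0 : α ≠ 0 := fun e => by simp [e] at hα
  have a1 : α + 1 ≠ 0 := fun e => a0 ((pow_eq_zero_iff three_ne_zero).1 (hα.trans e))
  have a2 : 1 + α + α ^ 2 ≠ 0 := fun e => a0 (by linear_combination -hα + (α - 1) * e)
  simp only [sum_range_succ, Finset.sum_range_zero, zero_add, pow_zero, pow_one] at h
  intro j hj
  cases h0 : b 0 <;> cases h1 : b 1 <;> cases h3 : b 2 <;>
    simp only [h0, h1, h3, if_true, zero_add, add_zero, Bool.false_eq_true, if_false] at h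
  · interval_cases j <;> assumption
  · exact absurd (pow_eq_zero_iff two_ne_zero |>.1 h) a0
  · exact absurd h a0
  · rcases mul_eq_zero.1 (show α * (α + 1) = 0 by linear_combination h) with e | e
    · exact absurd e a0
    · exact absurd e a1
  · exact absurd h one_ne_zero
  · exact absurd (mul_self_eq_zero.1 (show (α + 1) * (α + 1) = 0 by linear_combination h + α * h2)) a1
  · exact absurd (by linear_combination h) a1
  · exact absurd h a2

theorem co_eq_zero {c : ℕ} (hc : c < 8) (h : co α c = 0) : c = 0 := by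
  refine Nat.eq_of_testBit_eq fun j => ?_
  rw [Nat.zero_testBit]
  by_cases hj : j < 3
  · exact bits_zero hα h j hj
  · exact Nat.testBit_lt_two_pow (lt_of_lt_of_le (show c < 2 ^ 3 from hc)
      (Nat.pow_le_pow_right (by omega) (by omega)))

theorem co_inj {a b : ℕ} (ha : a < 8) (hb : b < 8) (h : co α a = co α b) : a = b := by
  have h0 := co_eq_zero hα (c := a ^^^ b) (Nat.xor_lt_two_pow (n := 3) ha hb)
    (by rw [co_xor, h, CharTwo.add_self_eq_zero])
  exact Nat.xor_eq_zero_iff.1 h0

theorem val_inj {r s : ℕ} (hr : r < 2 ^ 24) (hs : s < 2 ^ 24) (h : val α r = val α s) : r = s := by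
  refine Nat.xor_eq_zero_iff.1 (Nat.eq_of_testBit_eq fun t => ?_)
  rw [Nat.zero_testBit]
  by_cases ht : t < 24
  · have h0 : val α (r ^^^ s) (unidx (t / 3)) = 0 := by
      rw [val_xor, h, Pi.add_apply, CharTwo.add_self_eq_zero]
    have := bits_zero hα (b := fun j => (r ^^^ s).testBit (3 * idx (unidx (t / 3)) + j)) h0 (t % 3) (by omega)
    simp only [idx_unidx _ (show t / 3 < 8 by omega)] at this
    rwa [show 3 * (t / 3) + t % 3 = t by omega] at this
  · exact Nat.testBit_lt_two_pow (lt_of_lt_of_le (Nat.xor_lt_two_pow hr hs)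
      (Nat.pow_le_pow_right (by omega) (by omega)))

theorem Rep.code_unique {A B : List ℕ} {M : Matrix V4 V4 K} (hA : Rep α A M) (hB : Rep α B M)
    (oA : okC A = true) (oB : okC B = true) : A = B := by
  simp only [okC, Bool.and_eq_true, List.all_eq_true, decide_eq_true_eq] at oA oB
  refine List.ext_getElem (hA.1.trans hB.1.symm) fun t h1 h2 => ?_
  refine val_inj hα (oA.2 _ (List.getElem_mem h1)) (oB.2 _ (List.getElem_mem h2)) ?_
  have ht : t < 24 := hA.1 ▸ h1
  have ea := hA.2 (unidx (t / 3)) (t % 3) (by omega)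
  have eb := hB.2 (unidx (t / 3)) (t % 3) (by omega)
  simp only [idx_unidx _ (show t / 3 < 8 by omega), show 3 * (t / 3) + t % 3 = t by omega,
    List.getD_eq_getElem _ _ h1, List.getD_eq_getElem _ _ h2] at ea eb
  exact ea.trans eb.symm

end Alpha

end Cfsg.Agent.D4Spec69
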