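import Cfsg.Agent.D4Spec69.Checks
import Cfsg.Agent.CG26.AutPO.D4Model
import Cfsg.Agent.FieldAutGen.OrthCharTwo
import Cfsg.Agent.Forms59.PlusClass
import Cfsg.Agent.S1067

/-!
`³D₄(2)` inside `Ω⁺_8(8)` (helper69).
-/

set_option autoImplicit false

namespace Cfsg.Agent.D4Spec69

open Cfsg.Lie Cfsg.Agent.UnitaryOrthogonal Cfsg.Agent.UnitaryOrthogonal.Adjoint
open Cfsg.Agent.CG26.AutPO

universe u

variable {K : Type u} [Field K]

/-- The isometry group of the natural module. -/
abbrev Iso8 (K : Type u) [Field K] : Type u := ↥(Cfsg.isometryGroup K (Cfsg.quadFormPlus 4 K))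

/-- The matrix of an isometry. -/
def matHom : Iso8 K →* Matrix V4 V4 K :=
  (Units.coeHom (Matrix V4 V4 K)).comp (Cfsg.isometryGroup K (Cfsg.quadFormPlus 4 K)).subtype

theorem matHom_injective : Function.Injective (matHom (K := K)) :=
  fun _ _ h => Subtype.ext (Units.ext h)

/-- The isometry of a word. -/
noncomputable def rootW (w : List (ℕ × K)) : Iso8 K := (w.map fun p => d4Root (root p.1) p.2).prod

theorem coe_adj_rootW : ∀ w : List (ℕ × K), (∀ p ∈ w, p.1 < 24) →
    (adjHom (rootW w) : Matrix chevD4.Idx chevD4.Idx K) = chevD4.wordMat K w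
  | [], _ => by simp [rootW, ChevalleyDatum.wordMat]
  | p :: w, h => by
    obtain ⟨hp, hw⟩ := List.forall_mem_cons.1 h
    have hn : chevD4.nroots = 24 := by decide
    have e : (adjHom (d4Root (root p.1) p.2) : Matrix chevD4.Idx chevD4.Idx K) = chevD4.x K p.1 p.2 := by
      rw [coe_adjHom_d4Root, ChevalleyDatum.x, dif_pos (hn.symm ▸ hp)]
      congr 1
      exact Fin.ext (Nat.mod_eq_of_lt hp)
    have ih := coe_adj_rootW w hw
    simp only [rootW, ChevalleyDatum.wordMat, List.map_cons, List.prod_cons, map_mul, Units.val_mul] at ih ⊢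
    rw [e, ih]

theorem d4Words_lt {q : ℕ} {w : List (ℕ × K)} (hw : w ∈ d4Words K q) : ∀ p ∈ w, p.1 < 24 := by
  rcases hw with ⟨t, -, r, hr, rfl⟩ | ⟨t, rs, hrs, rfl⟩
  · simp only [d4p2, d4m2, List.mem_cons, List.not_mem_nil, or_false] at hr
    rcases hr with rfl | rfl <;> simp
  · simp only [d4p1, d4p3, d4p4, d4m1, d4m3, d4m4, List.mem_cons, List.not_mem_nil, or_false] at hrs
    rcases hrs with rfl | rfl <;> simp

/-- `³D₄(2)` on the natural module. -/
noncomputable def Y (K : Type u) [Field K] : Subgroup (Iso8 K) :=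
  Subgroup.closure {g | ∃ w ∈ d4Words K 2, g = rootW w}

theorem map_Y : (Y K).map adjHom = twistedD4 K 2 := by
  rw [Y, MonoidHom.map_closure, twistedD4, ChevalleyDatum.genSubgroup]
  congr 1
  ext g
  constructor
  · rintro ⟨_, ⟨w, hw, rfl⟩, rfl⟩
    exact ⟨w, hw, coe_adj_rootW w (d4Words_lt hw)⟩
  · rintro ⟨w, hw, h⟩
    exact ⟨rootW w, ⟨w, hw, rfl⟩, Units.ext ((coe_adj_rootW w (d4Words_lt hw)).trans h.symm)⟩

theorem rootW_mem_d4Gen : ∀ w : List (ℕ × K), rootW w ∈ d4Gen K := fun w =>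
  Subgroup.list_prod_mem _ fun g hg => by
    obtain ⟨p, -, rfl⟩ := List.mem_map.1 hg
    exact Subgroup.subset_closure ⟨_, _, rfl⟩

theorem Y_le_d4Gen : Y K ≤ d4Gen K := by
  rw [Y, Subgroup.closure_le]
  rintro _ ⟨w, -, rfl⟩
  exact rootW_mem_d4Gen w

theorem Y_le_commutator : Y K ≤ commutator (Iso8 K) := by
  rw [commutator_eq_d4Gen]
  exact Y_le_d4Gen

theorem plusLin_mem {g : Iso8 K} (hg : g ∈ d4Gen K) : plusLin g ∈ eichGroup (qPlus 4 K) := by
  have h : (d4Gen K).map plusLin.toMonoidHom ≤ eichGroup (qPlus 4 K) := by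
    rw [d4Gen, MonoidHom.map_closure, Subgroup.closure_le]
    rintro _ ⟨_, ⟨r, t, rfl⟩, rfl⟩
    show plusLin (d4Root r t) ∈ _
    rw [plusLin_d4Root]
    exact eich_mem_eichGroup _ _
  exact h ⟨g, hg, rfl⟩

theorem adj0_injective [Fintype K] [CharP K 2] : Function.Injective (D4.adj0 (F := K)) := by
  have hc1 : ∀ g : CG26.AutPO.Om (qPlus 4 K), g ∈ Subgroup.center (CG26.AutPO.Om (qPlus 4 K)) → g = 1 := fun g hg => by
    obtain ⟨c, hc2, hc⟩ := center_scalar D4.setup4 hg
    have hc3 : c = 1 := by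
      rcases mul_self_eq_one_iff.1 hc2 with h | h
      · exact h
      · rw [h, CharTwo.neg_eq]
    refine Subtype.ext (orth_ext fun v => ?_)
    rw [hc, hc3, one_smul]
    rfl
  haveI : IsSimpleGroup (CG26.AutPO.PO (qPlus 4 K)) := by
    haveI := (pomega_plus (F := K) 2 (by norm_num)).1
    obtain ⟨e⟩ := nonempty_pomega_equiv (qPlus_apply (F := K) 4) D4.setup4
    haveI : Nontrivial (CG26.AutPO.PO (qPlus 4 K)) := e.symm.toEquiv.nontrivial
    exact IsSimpleGroup.isSimpleGroup_of_surjective e.toMonoidHom e.surjective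
  let Φ : CG26.AutPO.PO (qPlus 4 K) →* GL chevD4.Idx K := QuotientGroup.lift _ D4.adj0 fun g hg => by
    rw [hc1 g hg]
    exact one_mem _
  refine (injective_iff_map_eq_one _).2 fun g hg => hc1 g ?_
  rcases (inferInstance : Φ.ker.Normal).eq_bot_or_eq_top with h | h
  · refine (QuotientGroup.eq_one_iff g).1 ((Subgroup.eq_bot_iff_forall _).1 h (piO _ g) ?_)
    exact hg
  · exfalso
    have h1 : ∀ r, chevD4.xMat K r 1 = 1 := fun r => by
      have h2 : Φ (D4.X r 1) = 1 := h.symm.le (Subgroup.mem_top _)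
      have h3 : ((Φ (D4.X r 1) : GL chevD4.Idx K) : Matrix chevD4.Idx chevD4.Idx K) = chevD4.xMat K r 1 :=
        D4.adj0_eo r 1
      rw [← h3, h2, Units.val_one]
    obtain ⟨a, b, hab⟩ := d4_noncomm
    have h2 := congrFun (congrFun (show chevD4.xMat K (⟨18, by decide⟩ : Fin chevD4.nroots) 1 *
        chevD4.xMat K ⟨5, by decide⟩ 1 = chevD4.xMat K ⟨5, by decide⟩ 1 * chevD4.xMat K ⟨18, by decide⟩ 1
        by rw [h1, h1]) a) b
    rw [xMat_one_eq, xMat_one_eq, ← Matrix.map_mul_intCast, ← Matrix.map_mul_intCast,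
      Matrix.map_apply, Matrix.map_apply, ← sub_eq_zero, ← Int.cast_sub] at h2
    rcases hab with e | e <;> rw [e] at h2 <;> simp at h2

theorem adjHom_injective [Fintype K] [CharP K 2] :
    Function.Injective ((adjHom (F := K)).comp (Y K).subtype) := by
  refine (injective_iff_map_eq_one _).2 fun y hy => ?_
  have h0 : D4.adj0 (F := K) ⟨plusLin y.1, plusLin_mem (Y_le_d4Gen y.2)⟩ = 1 := by
    show adjHom ((plusLin (F := K)).symm (plusLin y.1)) = 1
    rw [MulEquiv.symm_apply_apply]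
    exact hy
  have h1 : plusLin y.1 = 1 := congrArg Subtype.val (adj0_injective (h0.trans (map_one _).symm))
  exact Subtype.ext ((plusLin (F := K)).map_eq_one_iff.1 h1)

/-- The natural group is isomorphic to the adjoint one. -/
noncomputable def equivY (K : Type u) [Field K] [Fintype K] [CharP K 2] :
    ↥(Y K) ≃* ↥(twistedD4 K 2) :=
  (MonoidHom.ofInjective adjHom_injective).trans
    (MulEquiv.subgroupCongr (by rw [MonoidHom.range_comp, Subgroup.range_subtype, map_Y]))

theorem card_Y [Fintype K] (hK : Fintype.card K = 8) [CharP K 2] :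
    Nat.card ↥(Y K) = 2 ^ 12 * (3 ^ 4 * 7 ^ 2 * 13) := by
  rw [Nat.card_congr (equivY K).toEquiv,
    S1067.result (q := 2) Nat.prime_two.isPrimePow (by rw [hK]; norm_num)]
  norm_num

theorem even_fix_aux [Fintype K] [CharP K 2] {Q : QuadraticForm K (V4 → K)}
    (hQ : Q.polarBilin.Nondegenerate) {f : (V4 → K) → K} (hf : ⇑Q = f)
    (g : ↥(Cfsg.isometryGroup K f)) (hg : g ∈ commutator ↥(Cfsg.isometryGroup K f)) :
    Even (Module.finrank K (LinearMap.ker
      (((g.1 : GL V4 K) : Matrix V4 V4 K).mulVecLin - LinearMap.id))) := by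
  subst hf
  have h := (FieldAutGen.Orth.mem_omega_iff_even Q hQ (by simp) g).1 hg
  have h2 := Reflections.finrank_res_add_fix g
  have hc : Fintype.card V4 = 8 := by simp
  rw [hc] at h2
  obtain ⟨a, ha⟩ := h
  change Even (Module.finrank K (Reflections.fixSp g))
  exact ⟨4 - a, by omega⟩

theorem even_fix [Fintype K] [CharP K 2] (y : ↥(Y K)) :
    Even (Module.finrank K (LinearMap.ker ((matHom y.1).mulVecLin - LinearMap.id))) :=
  even_fix_aux Forms59.qPlus_nondegenerate (Reflections.coe_qPlus 4 K) y.1 (Y_le_commutator y.2)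

section Codes

variable [CharP K 2] {α : K} (hα : α ^ 3 = α + 1)
include hα

theorem rootE_lt (r : Fin chevD4.nroots) {c : ℕ} (hc : c < 8) (i k : ℕ) : rootE r c i k < 8 := by
  clear hα
  unfold rootE
  refine Nat.xor_lt_two_pow (n := 3) ?_ (Nat.xor_lt_two_pow (n := 3) ?_ ?_) <;> split_ifs <;> norm_num [hc]

omit hα [CharP K 2] in
theorem d4_sign : ∀ r : Fin chevD4.nroots, (d4Pair r).2.2 = 1 ∨ (d4Pair r).2.2 = -1 := by decide +kernel

theorem rep_root (r : Fin chevD4.nroots) {c : ℕ} (hc : c < 8) :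
    Rep α (encC (rootE r c)) (matHom (d4Root r (co α c))) := by
  have h := Rep.enc hα (E := rootE r c) (rootE_lt hα r hc)
  convert h using 1
  rw [show matHom (d4Root r (co α c)) = 1 + co α c • toMat (d4N r) from coe_d4Root r _]
  have hs : ((d4Pair r).2.2 : K) = 1 := by
    rcases d4_sign r with e | e <;> simp [e, CharTwo.neg_eq]
  refine Matrix.ext fun i l => ?_
  simp only [Matrix.of_apply, rootE, co_xor, d4N, toMat, List.map_cons, List.map_nil, List.sum_cons,
    List.sum_nil, add_zero, Matrix.add_apply, Matrix.smul_apply, Matrix.single_apply, Int.cast_neg, hs,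
    CharTwo.neg_eq, smul_eq_mul, Matrix.one_apply, apply_ite (co α), co_zero, co_one, mul_add, mul_ite,
    mul_one, mul_zero]
  have hA : ∀ a b : V4, (idx i = idx a ∧ idx l = idx b) = (a = i ∧ b = l) := fun a b =>
    propext ⟨fun h => ⟨(idx_inj _ _ h.1).symm, (idx_inj _ _ h.2).symm⟩, fun h => by rw [h.1, h.2]; exact ⟨rfl, rfl⟩⟩
  have hB : (idx i = idx l) = (i = l) := propext ⟨idx_inj _ _, congrArg idx⟩
  simp only [hA, hB]

theorem genWords_lt : ∀ s : ℕ, ∀ p ∈ genWords.getD s [], p.2 < 8 := by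
  clear hα
  intro s
  by_cases h : s < 8
  · interval_cases s <;> decide
  · rw [List.getD_eq_default _ _ (by simpa [genWords] using h)]
    simp

omit [CharP K 2] hα in
theorem rep_prod {β : Type*} (f : β → List ℕ) (g : β → Iso8 K) [CharP K 2] (l : List β)
    (h : ∀ b ∈ l, Rep α (f b) (matHom (g b))) : Rep α (prodC (l.map f)) (matHom (l.map g).prod) := by
  induction l with
  | nil => simpa [prodC] using Rep.one
  | cons b l ih =>
    obtain ⟨hb, hl⟩ := List.forall_mem_cons.1 h
    rw [List.map_cons, List.map_cons, List.prod_cons, map_mul]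
    exact hb.mul (ih hl)

/-- A generator. -/
noncomputable def genI (α : K) (s : ℕ) : Iso8 K :=
  rootW ((genWords.getD s []).map fun p => (p.1, co α p.2))

theorem rep_genI (s : ℕ) : Rep α (genC s) (matHom (genI α s)) := by
  rw [genI, rootW, List.map_map, genC]
  exact rep_prod _ _ _ fun p hp => rep_root hα _ (genWords_lt hα s p hp)

theorem genI_mem (s : ℕ) : genI α s ∈ Y K := by
  have h2 : (2 : K) = 0 := CharTwo.two_eq_zero
  have c2 : co α 2 = α := by simp [co, Finset.sum_range_succ, Nat.testBit]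
  have c4 : co α 4 = α ^ 2 := by simp [co, Finset.sum_range_succ, Nat.testBit]
  have c6 : co α 6 = α + α ^ 2 := by simp [co, Finset.sum_range_succ, Nat.testBit]
  have e4 : α ^ 4 = α + α ^ 2 := by linear_combination α * hα
  have e8 : (α ^ 2) ^ 4 = α := by
    linear_combination (α ^ 5 + α ^ 3 + α ^ 2 + α + 2) * hα + (α ^ 2 + α + 1) * h2
  by_cases hs : s < 8
  · refine Subgroup.subset_closure ⟨_, ?_, rfl⟩
    interval_cases s
    · exact Or.inl ⟨1, one_pow 2, 14, by simp [d4p2, d4m2], by simp [genWords, co_one]⟩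
    · exact Or.inl ⟨1, one_pow 2, 9, by simp [d4p2, d4m2], by simp [genWords, co_one]⟩
    · exact Or.inr ⟨1, (18, 13, 12), by simp [d4p1, d4p3, d4p4], by simp [genWords, co_one]⟩
    · exact Or.inr ⟨α, (18, 13, 12), by simp [d4p1, d4p3, d4p4], by simp [genWords, c2, c4, c6, e4]⟩
    · exact Or.inr ⟨α ^ 2, (18, 13, 12), by simp [d4p1, d4p3, d4p4],
        by simp [genWords, c2, c4, c6, e8, ← pow_mul, e4]⟩
    · exact Or.inr ⟨1, (5, 10, 11), by simp [d4m1, d4m3, d4m4], by simp [genWords, co_one]⟩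
    · exact Or.inr ⟨α, (5, 10, 11), by simp [d4m1, d4m3, d4m4], by simp [genWords, c2, c4, c6, e4]⟩
    · exact Or.inr ⟨α ^ 2, (5, 10, 11), by simp [d4m1, d4m3, d4m4],
        by simp [genWords, c2, c4, c6, e8, ← pow_mul, e4]⟩
  · rw [genI, List.getD_eq_default _ _ (by simpa [genWords] using hs)]
    exact one_mem _

/-- The element of a word. -/
noncomputable def wordY (w : List ℕ) : ↥(Y K) :=
  (w.map fun s => (⟨genI α s, genI_mem hα s⟩ : ↥(Y K))).prod

theorem rep_wordY (w : List ℕ) : Rep α (wordC w) (matHom (wordY hα w).1) := by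
  have h : (wordY hα w).1 = (w.map (genI α)).prod := by
    rw [wordY, ← Subgroup.coe_subtype, map_list_prod, List.map_map]
    rfl
  rw [h, wordC]
  exact rep_prod _ _ _ fun s _ => rep_genI hα s

end Codes

end Cfsg.Agent.D4Spec69
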