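import Mathlib

/-!
Geometric sums of matrices in characteristic two (helper69).
-/

set_option autoImplicit false

namespace Cfsg.Agent.D4Spec69

open Finset
open scoped Matrix

variable {K : Type*} [Field K] {ι : Type*} [Fintype ι] [DecidableEq ι]

/-- The dimension of the fixed space. -/
noncomputable def fixDim (M : Matrix ι ι K) : ℕ :=
  Module.finrank K (LinearMap.ker (M.mulVecLin - LinearMap.id))

theorem mulVecLin_sub_id (M : Matrix ι ι K) :
    M.mulVecLin - LinearMap.id = (M - 1).mulVecLin := by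
  refine LinearMap.ext fun v => ?_
  simp [Matrix.sub_mulVec]

theorem fixDim_add_rank (M : Matrix ι ι K) : fixDim M + (M - 1).rank = Fintype.card ι := by
  rw [fixDim, mulVecLin_sub_id, ← Module.finrank_fintype_fun_eq_card K, add_comm]
  exact LinearMap.finrank_range_add_finrank_ker _

theorem fixDim_le_pow (M : Matrix ι ι K) (j : ℕ) : fixDim M ≤ fixDim (M ^ j) := by
  refine Submodule.finrank_mono fun v hv => ?_
  simp only [LinearMap.mem_ker, LinearMap.sub_apply, Matrix.mulVecLin_apply, LinearMap.id_apply,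
    sub_eq_zero] at hv ⊢
  induction j with
  | zero => simp
  | succ j ih => rw [pow_succ, ← Matrix.mulVec_mulVec, hv, ih]

theorem fixDim_conj (c : (Matrix ι ι K)ˣ) (M : Matrix ι ι K) :
    fixDim ((c : Matrix ι ι K) * M * (↑c⁻¹ : Matrix ι ι K)) = fixDim M := by
  have h1 := fixDim_add_rank ((c : Matrix ι ι K) * M * (↑c⁻¹ : Matrix ι ι K))
  have h2 := fixDim_add_rank M
  have h3 : (c : Matrix ι ι K) * M * (↑c⁻¹ : Matrix ι ι K) - 1 =
      (c : Matrix ι ι K) * (M - 1) * (↑c⁻¹ : Matrix ι ι K) := by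
    rw [mul_sub, sub_mul, mul_one, Units.mul_inv]
  rw [h3, Matrix.rank_mul_eq_left_of_isUnit_det _ _ ((Matrix.isUnit_iff_isUnit_det _).1 c⁻¹.isUnit),
    Matrix.rank_mul_eq_right_of_isUnit_det _ _ ((Matrix.isUnit_iff_isUnit_det _).1 c.isUnit)] at h1
  omega

/-- The generalised fixed space is killed one step earlier. -/
theorem ker_pow_le {V : Type*} [AddCommGroup V] [Module K V] [FiniteDimensional K V]
    (T : Module.End K V) {k : ℕ} (hk : 1 ≤ k) (hd : Module.finrank K (LinearMap.ker (T ^ k)) ≤ k)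
    (he : Even (Module.finrank K (LinearMap.ker T))) :
    LinearMap.ker (T ^ k) ≤ LinearMap.ker (T ^ (k - 1)) := by
  obtain ⟨k', rfl⟩ : ∃ k', k = k' + 1 := ⟨k - 1, by omega⟩
  rw [Nat.add_sub_cancel]
  by_contra hcon
  have mono : ∀ j, LinearMap.ker (T ^ j) ≤ LinearMap.ker (T ^ (j + 1)) := fun j v hv => by
    rw [LinearMap.mem_ker] at hv ⊢
    rw [pow_succ', Module.End.mul_apply, hv, map_zero]
  have strict : ∀ j ≤ k', LinearMap.ker (T ^ j) < LinearMap.ker (T ^ (j + 1)) := by
    intro j hj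
    refine lt_of_le_of_ne (mono j) fun e => hcon ?_
    have e' : LinearMap.ker (T ^ j) = LinearMap.ker (T ^ j.succ) := e
    have h1 := Module.End.ker_pow_constant e' (k' - j)
    have h2 := Module.End.ker_pow_constant e' (k' + 1 - j)
    rw [Nat.add_sub_cancel' hj] at h1
    rw [Nat.add_sub_cancel' (by omega)] at h2
    rw [← h1, ← h2]
  have big : ∀ j ≤ k', j + 2 ≤ Module.finrank K (LinearMap.ker (T ^ (j + 1))) := by
    intro j
    induction j with
    | zero =>
      intro hj
      have h := Submodule.finrank_lt_finrank_of_lt (strict 0 hj)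
      rw [Nat.zero_add, pow_one] at h ⊢
      obtain ⟨a, ha⟩ := he
      omega
    | succ j ih =>
      intro hj
      have h := Submodule.finrank_lt_finrank_of_lt (strict (j + 1) hj)
      have := ih (by omega)
      omega
  have := big k' le_rfl
  omega

section CharTwo

variable [CharP K 2]

theorem add_self_matrix (A : Matrix ι ι K) : A + A = 0 :=
  Matrix.ext fun _ _ => CharTwo.add_self_eq_zero _

theorem sub_eq_add_matrix (A B : Matrix ι ι K) : A - B = A + B :=
  Matrix.ext fun _ _ => CharTwo.sub_eq_add _ _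

theorem pow_two_pow_sub (M : Matrix ι ι K) (a : ℕ) : (M - 1) ^ 2 ^ a = M ^ 2 ^ a - 1 := by
  induction a with
  | zero => simp
  | succ a ih =>
    rw [pow_succ, pow_mul, pow_mul, ih, sq, sq, sub_mul, mul_sub, mul_sub, one_mul, mul_one]
    simp only [sub_eq_add_matrix]
    rw [add_assoc, ← add_assoc (M ^ 2 ^ a) (M ^ 2 ^ a), add_self_matrix, zero_add, one_mul]

theorem geom_two_pow (M : Matrix ι ι K) (a : ℕ) :
    ∑ i ∈ range (2 ^ a), M ^ i = (M - 1) ^ (2 ^ a - 1) := by
  induction a with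
  | zero => simp
  | succ a ih =>
    have hpos : 1 ≤ 2 ^ a := Nat.one_le_two_pow
    rw [pow_succ, mul_two, sum_range_add]
    simp only [pow_add]
    rw [← mul_sum, ih, show 2 ^ a + 2 ^ a - 1 = 2 ^ a + (2 ^ a - 1) by omega, pow_add, pow_two_pow_sub,
      sub_eq_add_matrix (M ^ 2 ^ a), add_mul, one_mul, add_comm]

theorem geom_split (M : Matrix ι ι K) (k : ℕ) : ∀ m : ℕ,
    ∑ i ∈ range (k * m), M ^ i = (∑ i ∈ range k, M ^ i) * ∑ j ∈ range m, (M ^ k) ^ j
  | 0 => by simp
  | m + 1 => by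
    rw [Nat.mul_succ, sum_range_add, geom_split M k m, sum_range_succ, mul_add, ← pow_mul M k m]
    congr 1
    simp only [← pow_add, sum_mul]
    exact sum_congr rfl fun i _ => by rw [add_comm]

/-- **The criterion.** -/
theorem geom_sum_eq_zero (M : Matrix ι ι K) (a m : ℕ) (hM : M ^ (2 ^ a * m) = 1)
    (he : Even (fixDim M)) (hd : fixDim (M ^ 2 ^ a) ≤ 2 ^ a) :
    ∑ i ∈ range (2 ^ a * m), M ^ i = 0 := by
  rw [geom_split, geom_two_pow]
  set T : Module.End K (ι → K) := Matrix.toLinAlgEquiv' (M - 1) with hT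
  have hT1 : T = (M - 1).mulVecLin := rfl
  have hTk : T ^ 2 ^ a = (M ^ 2 ^ a - 1).mulVecLin := by
    rw [hT, ← map_pow, pow_two_pow_sub]
    rfl
  have key := ker_pow_le T (k := 2 ^ a) Nat.one_le_two_pow
    (by rw [hTk, ← mulVecLin_sub_id]; exact hd) (by rw [hT1, ← mulVecLin_sub_id]; exact he)
  refine Matrix.ext_of_mulVec_single fun l => ?_
  rw [Matrix.zero_mulVec, ← Matrix.mulVec_mulVec]
  have hw : (∑ j ∈ range m, (M ^ 2 ^ a) ^ j) *ᵥ Pi.single l 1 ∈ LinearMap.ker (T ^ 2 ^ a) := by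
    rw [hTk, LinearMap.mem_ker, Matrix.mulVecLin_apply, Matrix.mulVec_mulVec, mul_geom_sum, ← pow_mul, hM,
      sub_self, Matrix.zero_mulVec]
  have h := LinearMap.mem_ker.1 (key hw)
  rw [hT, ← map_pow, Matrix.toLinAlgEquiv'_apply] at h
  exact h

end CharTwo

/-- `x` is diagonalisable, its eigenvalues `≠ 1` being simple when `1` is one. -/
def DiagGood (x : Matrix ι ι K) : Prop :=
  ∃ (P Q : Matrix ι ι K) (D : ι → K), Q * P = 1 ∧ x * P = P * Matrix.diagonal D ∧ (∀ i, D i ≠ 0) ∧
    ((∀ i, D i ≠ 1) ∨ (Nat.card {i // D i = 1} ≤ 2 ∧ ∀ i l, D i ≠ 1 → D i = D l → i = l))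

theorem DiagGood.conj {x : Matrix ι ι K} (h : DiagGood x) (c : (Matrix ι ι K)ˣ) :
    DiagGood ((c : Matrix ι ι K) * x * (↑c⁻¹ : Matrix ι ι K)) := by
  obtain ⟨P, Q, D, h1, h2, h3, h4⟩ := h
  refine ⟨(c : Matrix ι ι K) * P, Q * (↑c⁻¹ : Matrix ι ι K), D, ?_, ?_, h3, h4⟩
  · rw [mul_assoc, ← mul_assoc (↑c⁻¹ : Matrix ι ι K), Units.inv_mul, one_mul, h1]
  · rw [mul_assoc, ← mul_assoc (↑c⁻¹ : Matrix ι ι K), Units.inv_mul, one_mul, mul_assoc, h2, mul_assoc]

theorem DiagGood.eq_mul {x P Q : Matrix ι ι K} {D : ι → K} (h1 : Q * P = 1)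
    (h2 : x * P = P * Matrix.diagonal D) : x = P * Matrix.diagonal D * Q := by
  rw [← h2, mul_assoc, mul_eq_one_comm.1 h1, mul_one]

theorem DiagGood.fixDim_eq {x P Q : Matrix ι ι K} {D : ι → K} (h1 : Q * P = 1)
    (h2 : x * P = P * Matrix.diagonal D) : fixDim x = Nat.card {i // D i = 1} := by
  classical
  let c : (Matrix ι ι K)ˣ := ⟨P, Q, mul_eq_one_comm.1 h1, h1⟩
  have e : x = (c : Matrix ι ι K) * Matrix.diagonal D * (↑c⁻¹ : Matrix ι ι K) := DiagGood.eq_mul h1 h2
  rw [e, fixDim_conj]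
  have h := fixDim_add_rank (Matrix.diagonal D)
  rw [← Matrix.diagonal_one, Matrix.diagonal_sub, Matrix.rank_diagonal] at h
  have hc : Fintype.card {i // D i - 1 ≠ 0} = Fintype.card ι - Fintype.card {i // D i = 1} := by
    rw [← Fintype.card_subtype_compl]
    exact Fintype.card_congr (Equiv.subtypeEquivRight fun i => by rw [ne_eq, sub_eq_zero])
  have hle : Fintype.card {i // D i = 1} ≤ Fintype.card ι := Fintype.card_subtype_le _
  rw [Nat.card_eq_fintype_card]
  omega

theorem DiagGood.fixDim_le {x : Matrix ι ι K} (h : DiagGood x) : fixDim x ≤ 2 := by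
  obtain ⟨P, Q, D, h1, h2, -, h4⟩ := h
  rw [DiagGood.fixDim_eq h1 h2]
  rcases h4 with h | ⟨h, -⟩
  · haveI : IsEmpty {i // D i = 1} := ⟨fun i => h i.1 i.2⟩
    simp
  · exact h

theorem DiagGood.pow_seven [Fintype K] (hK : Fintype.card K = 8) {x : Matrix ι ι K} (h : DiagGood x) :
    x ^ 7 = 1 := by
  obtain ⟨P, Q, D, h1, h2, h3, -⟩ := h
  have hp : ∀ n : ℕ, x ^ n * P = P * Matrix.diagonal D ^ n := by
    intro n
    induction n with
    | zero => simp
    | succ n ih => rw [pow_succ, mul_assoc, h2, ← mul_assoc, ih, mul_assoc, ← pow_succ]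
  have h7 : Matrix.diagonal D ^ 7 = 1 := by
    rw [Matrix.diagonal_pow, ← Matrix.diagonal_one]
    congr 1
    funext i
    have := FiniteField.pow_card_sub_one_eq_one (D i) (h3 i)
    rw [hK] at this
    exact this
  calc x ^ 7 = x ^ 7 * P * Q := by rw [mul_assoc, mul_eq_one_comm.1 h1, mul_one]
    _ = P * Q := by rw [hp, h7, mul_one]
    _ = 1 := mul_eq_one_comm.1 h1

/-- An element of order three centralising `x` and its fixed space is trivial. -/
theorem DiagGood.centraliser [Fintype K] (hK : Fintype.card K = 8) {x y : Matrix ι ι K} (h : DiagGood x)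
    (hfix : fixDim x ≠ 0) (hxy : Commute x y) (hy : y ^ 3 = 1)
    (hker : LinearMap.ker (x.mulVecLin - LinearMap.id) ≤ LinearMap.ker (y.mulVecLin - LinearMap.id)) :
    y = 1 := by
  obtain ⟨P, Q, D, h1, h2, -, h4⟩ := h
  have h1' : P * Q = 1 := mul_eq_one_comm.1 h1
  have hsimple : ∀ i l, D i ≠ 1 → D i = D l → i = l := by
    rcases h4 with h | ⟨-, h⟩
    · exfalso
      refine hfix ?_
      rw [DiagGood.fixDim_eq h1 h2]
      haveI : IsEmpty {i // D i = 1} := ⟨fun i => h i.1 i.2⟩
      simp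
    · exact h
  set z := Q * y * P with hz
  have hyz : y = P * z * Q := by
    rw [hz]
    calc y = (P * Q) * y * (P * Q) := by rw [h1', one_mul, mul_one]
      _ = P * (Q * y * P) * Q := by simp only [mul_assoc]
  have hQx : Q * x = Matrix.diagonal D * Q := by
    rw [DiagGood.eq_mul h1 h2, ← mul_assoc, ← mul_assoc, h1, one_mul]
  have hcomm : Matrix.diagonal D * z = z * Matrix.diagonal D := by
    calc Matrix.diagonal D * z = (Matrix.diagonal D * Q) * y * P := by rw [hz]; simp only [mul_assoc]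
      _ = Q * (x * y) * P := by rw [← hQx]; simp only [mul_assoc]
      _ = Q * y * (x * P) := by rw [hxy.eq]; simp only [mul_assoc]
      _ = z * Matrix.diagonal D := by rw [h2, hz]; simp only [mul_assoc]
  have hcol : ∀ l, D l = 1 → ∀ i, z i l = (1 : Matrix ι ι K) i l := by
    intro l hl i
    have hv : P *ᵥ Pi.single l 1 ∈ LinearMap.ker (x.mulVecLin - LinearMap.id) := by
      rw [LinearMap.mem_ker, LinearMap.sub_apply, Matrix.mulVecLin_apply, LinearMap.id_apply, sub_eq_zero,
        Matrix.mulVec_mulVec, h2, ← Matrix.mulVec_mulVec, Matrix.diagonal_mulVec_single, hl, mul_one]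
    have hyv := hker hv
    rw [LinearMap.mem_ker, LinearMap.sub_apply, Matrix.mulVecLin_apply, LinearMap.id_apply, sub_eq_zero,
      Matrix.mulVec_mulVec] at hyv
    have h5 : z *ᵥ Pi.single l (1 : K) = (1 : Matrix ι ι K) *ᵥ Pi.single l 1 := by
      rw [hz, mul_assoc, ← Matrix.mulVec_mulVec, hyv, Matrix.mulVec_mulVec, h1]
    have := congrFun h5 i
    simpa [Matrix.mulVec_single_one] using this
  have hoff : ∀ i l, i ≠ l → z i l = 0 := by
    intro i l hil
    by_cases hl : D l = 1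
    · rw [hcol l hl, Matrix.one_apply_ne hil]
    · by_contra hne
      have := congrFun (congrFun hcomm i) l
      rw [Matrix.diagonal_mul, Matrix.mul_diagonal, mul_comm] at this
      exact hil (hsimple l i hl (mul_left_cancel₀ hne this).symm).symm
  have hzd : z = Matrix.diagonal fun i => z i i := by
    refine Matrix.ext fun i l => ?_
    by_cases h : i = l
    · subst h; rw [Matrix.diagonal_apply_eq]
    · rw [Matrix.diagonal_apply_ne _ h, hoff i l h]
  have hz3 : z ^ 3 = 1 := by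
    have e : z ^ 3 = Q * y ^ 3 * P := by
      simp only [hz, pow_succ, pow_zero, one_mul, mul_assoc, ← mul_assoc P Q, h1', one_mul]
    rw [e, hy, mul_one, h1]
  have hz1 : z = 1 := by
    rw [hzd, Matrix.diagonal_pow, ← Matrix.diagonal_one] at hz3
    have hd : ∀ i, z i i ^ 3 = 1 := fun i => congrFun (Matrix.diagonal_injective hz3) i
    rw [hzd, ← Matrix.diagonal_one]
    congr 1
    funext i
    have h3 := hd i
    have h0 : z i i ≠ 0 := fun e => by simp [e] at h3
    have h7 := FiniteField.pow_card_sub_one_eq_one (z i i) h0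
    rw [hK] at h7
    calc z i i = (z i i ^ 3) ^ 5 / ((z i i ^ 7) ^ 2) := by
          field_simp
      _ = 1 := by rw [h3, h7]; simp
  rw [hyz, hz1, mul_one, h1']

end Cfsg.Agent.D4Spec69
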