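import Cfsg.Agent.D4Spec69.Group
import Cfsg.Agent.D4Spec69.Kill

/-!
The elements of odd prime power order of `³D₄(2)` on the natural module (helper69).
-/

set_option autoImplicit false

namespace Cfsg.Agent.D4Spec69

universe u

variable {K : Type u} [Field K]

/-- The matrix representation of `³D₄(2)`. -/
noncomputable def matY : ↥(Y K) →* Matrix V4 V4 K := matHom.comp (Y K).subtype

theorem matY_injective : Function.Injective (matY (K := K)) :=
  matHom_injective.comp Subtype.val_injective

theorem finite_Y [Finite K] : Finite ↥(Y K) := by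
  have : Finite (Matrix V4 V4 K) := inferInstanceAs (Finite (V4 → V4 → K))
  exact Finite.of_injective _ matY_injective

theorem exists_list_subgroup [CharP K 2] [Finite ↥(Y K)] {α : K} (hα : α ^ 3 = α + 1) {L : List (List ℕ)} {g0 g1 : List ℕ}
    {par : List (ℕ × ℕ)} {step : List (List ℕ)} (hc : checkList L g0 g1 par step = true) {N : ℕ}
    (hN : L.length = N) (hN0 : 0 < N) (y0 y1 : ↥(Y K)) (h0 : Rep α g0 (matY y0)) (h1 : Rep α g1 (matY y1)) :
    ∃ S : Subgroup ↥(Y K), Nat.card S = N ∧ ∀ g ∈ S, ∃ i < N, Rep α (L.getD i []) (matY g) := by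
  classical
  subst hN
  simp only [checkList, Bool.and_eq_true, beq_iff_eq, decide_eq_true_eq, List.all_eq_true, List.mem_range,
    Bool.or_eq_true] at hc
  obtain ⟨⟨⟨hone, hnd⟩, hok⟩, hrow⟩ := hc
  let S : Subgroup ↥(Y K) := Subgroup.closure {y0, y1}
  have hel : ∀ i < L.length, ∃ g ∈ S, Rep α (L.getD i []) (matY g) := by
    intro i
    induction i using Nat.strong_induction_on with
    | _ i ih =>
      intro hi
      rcases (hrow i hi).2 with h | ⟨⟨hp, hs⟩, hst⟩
      · exact ⟨1, one_mem _, by rw [h, hone, map_one]; exact Rep.one⟩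
      · set k := (par.getD i (0, 0)).1
        set s := (par.getD i (0, 0)).2
        obtain ⟨g, hg, hr⟩ := ih k hp (hp.trans hi)
        have hk := (hrow k (hp.trans hi)).1
        interval_cases s
        · refine ⟨g * y0, mul_mem hg (Subgroup.subset_closure (by simp)), ?_⟩
          have e := hk.1.1.1
          rw [hst] at e
          rw [← e, map_mul]
          exact hr.mul h0
        · refine ⟨g * y1, mul_mem hg (Subgroup.subset_closure (by simp)), ?_⟩
          have e := hk.1.1.2
          rw [hst] at e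
          rw [← e, map_mul]
          exact hr.mul h1
  let C : Set ↥(Y K) := {g | ∃ i < L.length, Rep α (L.getD i []) (matY g)}
  have hC : ∀ g ∈ C, ∀ n : ℕ, g * y0 ^ n ∈ C ∧ g * y1 ^ n ∈ C := by
    intro g hg n
    induction n with
    | zero => simpa using hg
    | succ n ih =>
      obtain ⟨⟨i, hi, ri⟩, ⟨j, hj, rj⟩⟩ := ih
      refine ⟨⟨_, (hrow i hi).1.1.2, ?_⟩, ⟨_, (hrow j hj).1.2, ?_⟩⟩
      · rw [← (hrow i hi).1.1.1.1, pow_succ, ← mul_assoc, map_mul]
        exact ri.mul h0
      · rw [← (hrow j hj).1.1.1.2, pow_succ, ← mul_assoc, map_mul]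
        exact rj.mul h1
  have hS : ∀ g ∈ S, g ∈ C := by
    intro g hg
    induction hg using Subgroup.closure_induction_right with
    | one => exact ⟨0, hN0, by rw [hone, map_one]; exact Rep.one⟩
    | mul_right x hx y hy ih =>
      rcases hy with rfl | hy
      · simpa using (hC x ih 1).1
      · rw [Set.mem_singleton_iff] at hy
        subst hy
        simpa using (hC x ih 1).2
    | mul_inv_cancel x hx y hy ih =>
      have e : y⁻¹ = y ^ (orderOf y - 1) := by
        rw [inv_eq_iff_mul_eq_one, ← pow_succ', Nat.sub_add_cancel (orderOf_pos y), pow_orderOf_eq_one]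
      rw [e]
      rcases hy with rfl | hy
      · exact (hC x ih _).1
      · rw [Set.mem_singleton_iff] at hy
        subst hy
        exact (hC x ih _).2
  refine ⟨S, ?_, fun g hg => hS g hg⟩
  choose el helS helR using hel
  let e : Fin L.length → S := fun i => ⟨el i.1 i.2, helS i.1 i.2⟩
  have he : Function.Bijective e := by
    refine ⟨fun i j h => ?_, fun g => ?_⟩
    · have h' : el i.1 i.2 = el j.1 j.2 := congrArg Subtype.val h
      have hA := helR i.1 i.2
      have hB := helR j.1 j.2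
      rw [h'] at hA
      rw [List.getD_eq_getElem _ _ i.2] at hA
      rw [List.getD_eq_getElem _ _ j.2] at hB
      have := Rep.code_unique hα hA hB (hok _ (List.getElem_mem i.2)) (hok _ (List.getElem_mem j.2))
      exact Fin.ext (hnd.getElem_inj_iff.1 this)
    · obtain ⟨i, hi, hr⟩ := hS g.1 g.2
      exact ⟨⟨i, hi⟩, Subtype.ext (matY_injective ((helR i hi).unique hr))⟩
  rw [← Nat.card_eq_of_bijective e he, Nat.card_fin]

theorem conj_into {G : Type*} [Group G] [Finite G] {p e : ℕ} [Fact p.Prime] (S : Subgroup G)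
    (hS : Nat.card S = p ^ e) (hi : ¬ p ∣ S.index) (x : G) {k : ℕ} (hx : x ^ p ^ k = 1) :
    ∃ c : G, c * x * c⁻¹ ∈ S := by
  have hpS : IsPGroup p S := IsPGroup.of_card hS
  let P : Sylow p G := hpS.toSylow hi
  have hpx : IsPGroup p (Subgroup.zpowers x) := by
    obtain ⟨j, -, hj⟩ := (Nat.dvd_prime_pow Fact.out).1 (orderOf_dvd_of_pow_eq_one hx)
    exact IsPGroup.of_card (n := j) (by rw [Nat.card_zpowers, hj])
  obtain ⟨Q, hQ⟩ := hpx.exists_le_sylow
  obtain ⟨c, hc⟩ := MulAction.exists_smul_eq G Q P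
  refine ⟨c, ?_⟩
  have h1 : MulAut.conj c x ∈ (c • Q : Sylow p G).1 :=
    Subgroup.smul_mem_pointwise_smul x (MulAut.conj c) _ (hQ (Subgroup.mem_zpowers x))
  rw [hc] at h1
  exact h1

theorem matY_conj (c s : ↥(Y K)) :
    matY (c⁻¹ * s * c) = ((matY (K := K)).toHomUnits c⁻¹ : Matrix V4 V4 K) * matY s *
      (↑((matY (K := K)).toHomUnits c⁻¹)⁻¹ : Matrix V4 V4 K) := by
  rw [← map_inv, inv_inv, map_mul, map_mul]
  rfl

section Facts

variable [Fintype K] [CharP K 2] (hK : Fintype.card K = 8) {α : K} (hα : α ^ 3 = α + 1)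
include hK hα

omit [Fintype K] hK in
theorem rep_code {A : List ℕ} (h : isCode A = true) :
    ∃ M : Matrix V4 V4 K, Rep α A M := by
  have h' : encC (decC A) = A := by simpa [isCode] using h
  refine ⟨_, h' ▸ Rep.enc hα fun i k => ?_⟩
  exact Nat.mod_lt _ (by norm_num)

omit [Fintype K] hK hα in
theorem rep_pow {A : List ℕ} {M : Matrix V4 V4 K} (h : Rep α A M) :
    ∀ n : ℕ, Rep α (powC A n) (M ^ n)
  | 0 => by simpa [powC] using Rep.one
  | n + 1 => by rw [powC, pow_succ]; exact (rep_pow h n).mul h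

omit [Fintype K] hK in
theorem ne_one_of_code {A : List ℕ} {M : Matrix V4 V4 K} (h : Rep α A M) (hne : nonOne A = true) : M ≠ 1 := by
  rintro rfl
  simp only [nonOne, Bool.and_eq_true, bne_iff_ne] at hne
  exact hne.2 (h.code_unique hα Rep.one hne.1 (by decide))

omit [Fintype K] hK in
theorem fixDim_le_of_idem {A L R : List ℕ} {M : Matrix V4 V4 K} {r : ℕ} (hA : Rep α A M)
    (hL : isCode L = true) (hR : isCode R = true) (hr : r ≤ 8)
    (h : mulC (mulC L (addC A oneC)) R = idemC r) : fixDim M ≤ 8 - r := by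
  obtain ⟨ML, hML⟩ := rep_code hα hL
  obtain ⟨MR, hMR⟩ := rep_code hα hR
  have h1 := (hML.mul (hA.add Rep.one)).mul hMR
  rw [h] at h1
  have h2 := h1.unique (Rep.enc hα (E := fun i k => if i = k ∧ i < r then 1 else 0)
    (fun i k => by split_ifs <;> norm_num))
  have h3 : (Matrix.of fun i l : V4 => co α (if idx i = idx l ∧ idx i < r then 1 else 0)) =
      Matrix.diagonal fun i : V4 => if idx i < r then (1 : K) else 0 := by
    refine Matrix.ext fun i l => ?_
    rw [Matrix.of_apply, Matrix.diagonal_apply, apply_ite (co α), co_one, co_zero]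
    by_cases e : i = l
    · subst e; simp
    · rw [if_neg (fun h => e (idx_inj _ _ h.1)), if_neg e]
  rw [h3] at h2
  have hrank : (Matrix.diagonal fun i : V4 => if idx i < r then (1 : K) else 0).rank = r := by
    classical
    rw [Matrix.rank_diagonal]
    rw [Fintype.card_congr (Equiv.subtypeEquivRight (q := fun i : V4 => idx i < r) fun i => by
      split_ifs <;> simp [*])]
    interval_cases r <;> decide
  rw [← h2] at hrank
  have h4 := ((Matrix.rank_mul_le_left (ML * (M + 1)) MR).trans (Matrix.rank_mul_le_right ML (M + 1)))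
  have h5 := fixDim_add_rank M
  rw [sub_eq_add_matrix, show Fintype.card V4 = 8 by simp] at h5
  omega

omit [Fintype K] hK hα in
theorem fixDim_eq_zero_of_pow (y : ↥(Y K)) (j : ℕ) (h : fixDim (matY (y ^ j)) = 0) : fixDim (matY y) = 0 := by
  have := fixDim_le_pow (matY y) j
  rw [← map_pow, h] at this
  omega

theorem three_facts (x : ↥(Y K)) {k : ℕ} (hx : x ^ 3 ^ k = 1) (hne : x ≠ 1) :
    fixDim (matY x) ≤ 4 ∧ (x ^ 3 ≠ 1 → fixDim (matY x) = 0) := by
  haveI : Finite ↥(Y K) := finite_Y
  haveI : Fact (Nat.Prime 3) := ⟨Nat.prime_three⟩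
  obtain ⟨S, hS, hmem⟩ := exists_list_subgroup hα list3 elems3_length (by norm_num)
    (wordY hα (Data.words3.getD 0 [])) (wordY hα (Data.words3.getD 1 [])) (rep_wordY hα (Data.words3.getD 0 []))
    (rep_wordY hα (Data.words3.getD 1 []))
  have hindex : ¬ 3 ∣ S.index := by
    have h := S.index_mul_card
    rw [hS, card_Y hK] at h
    have : S.index = 2 ^ 12 * 7 ^ 2 * 13 := by norm_num at h ⊢; omega
    rw [this]
    norm_num
  obtain ⟨c, hc⟩ := conj_into (p := 3) (e := 4) S (by rw [hS]; norm_num) hindex x hx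
  set s := c * x * c⁻¹ with hs
  have hxs : x = c⁻¹ * s * c := by rw [hs]; group
  have hsne : s ≠ 1 := fun e => hne (by rw [hxs, e]; group)
  obtain ⟨i, hi, hr⟩ := hmem s hc
  have hck := List.all_eq_true.1 rank3 i (List.mem_range.2 hi)
  simp only [checkRank, Bool.or_eq_true, Bool.and_eq_true, beq_iff_eq, decide_eq_true_eq] at hck
  rcases hck with e | ⟨⟨⟨⟨hL, hR⟩, he⟩, h4, h8⟩, hcube⟩
  · rw [e] at hr
    exact absurd (matY_injective ((hr.unique Rep.one).trans (map_one _).symm)) hsne
  have hle := fixDim_le_of_idem hα hr hL hR h8 he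
  have hfx : fixDim (matY x) = fixDim (matY s) := by rw [hxs, matY_conj, fixDim_conj]
  rw [hfx]
  refine ⟨by omega, fun h3 => ?_⟩
  rcases hcube with e | e
  · rw [e] at hle; omega
  · exfalso
    have h := rep_pow hr 3
    rw [e] at h
    have hs3 : s ^ 3 = 1 := matY_injective (by rw [map_pow, map_one]; exact h.unique Rep.one)
    refine h3 ?_
    rw [hxs, show c⁻¹ * s * c = c⁻¹ * s * c⁻¹⁻¹ by rw [inv_inv], conj_pow, hs3]
    group

theorem seven_facts (x : ↥(Y K)) {k : ℕ} (hx : x ^ 7 ^ k = 1) (hne : x ≠ 1) : DiagGood (matY x) := by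
  haveI : Finite ↥(Y K) := finite_Y
  haveI : Fact (Nat.Prime 7) := ⟨by norm_num⟩
  obtain ⟨S, hS, hmem⟩ := exists_list_subgroup hα list7 elems7_length (by norm_num)
    (wordY hα (Data.words7.getD 0 [])) (wordY hα (Data.words7.getD 1 [])) (rep_wordY hα (Data.words7.getD 0 []))
    (rep_wordY hα (Data.words7.getD 1 []))
  have hindex : ¬ 7 ∣ S.index := by
    have h := S.index_mul_card
    rw [hS, card_Y hK] at h
    have : S.index = 2 ^ 12 * 3 ^ 4 * 13 := by norm_num at h ⊢; omega
    rw [this]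
    norm_num
  obtain ⟨c, hc⟩ := conj_into (p := 7) (e := 2) S (by rw [hS]; norm_num) hindex x hx
  set s := c * x * c⁻¹ with hs
  have hxs : x = c⁻¹ * s * c := by rw [hs]; group
  rw [hxs, matY_conj]
  refine DiagGood.conj ?_ _
  have hsne : s ≠ 1 := fun e => hne (by rw [hxs, e]; group)
  obtain ⟨i, hi, hr⟩ := hmem s hc
  have hck := List.all_eq_true.1 diag7_ok i (List.mem_range.2 hi)
  simp only [checkDiag, diagOK, Bool.or_eq_true, Bool.and_eq_true, beq_iff_eq, decide_eq_true_eq,
    List.mem_range] at hck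
  rcases hck with e | ⟨he, hb, hD⟩
  · rw [e] at hr
    exact absurd (matY_injective ((hr.unique Rep.one).trans (map_one _).symm)) hsne
  have hinv := eigen7_inv
  simp only [Bool.and_eq_true, beq_iff_eq] at hinv
  obtain ⟨⟨hP, hQ⟩, hQP⟩ := hinv
  obtain ⟨P, rP⟩ := rep_code hα hP
  obtain ⟨Q, rQ⟩ := rep_code hα hQ
  set D := Data.diag7.getD i [] with hDdef
  let d : V4 → K := fun l => co α (D.getD (idx l) 0)
  have rD : Rep α (diagC D) (Matrix.diagonal d) := by
    have h := Rep.enc hα (E := fun i k => if i = k then D.getD i 0 % 8 else 0)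
      (fun i k => by split_ifs <;> omega)
    have e : (Matrix.of fun a b : V4 => co α (if idx a = idx b then D.getD (idx a) 0 % 8 else 0)) =
        Matrix.diagonal d := by
      refine Matrix.ext fun a b => ?_
      rw [Matrix.of_apply, Matrix.diagonal_apply, apply_ite (co α), co_zero,
        Nat.mod_eq_of_lt (hb _ (idx_lt a)).2]
      exact if_congr ⟨idx_inj a b, congrArg idx⟩ rfl rfl
    rw [← e]
    exact h
  have h1 : Q * P = 1 := (hQP ▸ rQ.mul rP).unique Rep.one
  have h2 : matY s * P = P * Matrix.diagonal d := (he ▸ hr.mul rP).unique (rP.mul rD)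
  refine ⟨P, Q, d, h1, h2, fun l h => ?_, ?_⟩
  · have := co_eq_zero hα (hb _ (idx_lt l)).2 h
    have := (hb _ (idx_lt l)).1
    omega
  have hone : ∀ l : V4, d l = 1 ↔ D.getD (idx l) 0 = 1 := fun l =>
    ⟨fun h => co_inj hα (hb _ (idx_lt l)).2 (by norm_num) (h.trans (co_one α).symm),
      fun h => by simp only [d, h, co_one]⟩
  rcases hD with h | ⟨hcnt, hinj⟩
  · exact Or.inl fun l e => h _ (idx_lt l) ((hone l).1 e)
  · refine Or.inr ⟨le_trans ?_ hcnt, fun a b ha hab => ?_⟩
    · classical
      rw [Nat.card_eq_fintype_card, Fintype.card_subtype]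
      refine le_trans ?_ (List.toFinset_card_le _)
      refine Finset.card_le_card_of_injOn idx (fun l hl => ?_) (fun a _ b _ h => idx_inj a b h)
      simp only [Finset.coe_filter, Finset.mem_univ, true_and, Set.mem_setOf_eq] at hl
      simp only [Finset.mem_coe, List.mem_toFinset, List.mem_filter, List.mem_range, decide_eq_true_eq]
      exact ⟨idx_lt l, (hone l).1 hl⟩
    · exact idx_inj a b (hinj _ (idx_lt a) _ (idx_lt b) (fun e => ha ((hone a).2 e))
        (co_inj hα (hb _ (idx_lt a)).2 (hb _ (idx_lt b)).2 hab))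

theorem thirteen_facts (x : ↥(Y K)) (hx : orderOf x = 13) : fixDim (matY x) = 0 := by
  haveI : Finite ↥(Y K) := finite_Y
  haveI : Fact (Nat.Prime 13) := ⟨by norm_num⟩
  have hck := elt13
  simp only [Bool.and_eq_true, beq_iff_eq] at hck
  obtain ⟨⟨⟨hL, hR⟩, hpow⟩, he⟩ := hck
  let z : ↥(Y K) := wordY hα [0, 1, 3, 7]
  have rz : Rep α (wordC [0, 1, 3, 7]) (matY z) := rep_wordY hα _
  have hz0 : fixDim (matY z) = 0 := by have := fixDim_le_of_idem hα rz hL hR le_rfl he; omega
  have hz13 : z ^ 13 = 1 := by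
    have h := rep_pow rz 13
    rw [hpow] at h
    exact matY_injective (by rw [map_pow, map_one]; exact h.unique Rep.one)
  have hzne : z ≠ 1 := by
    intro e
    rw [e, map_one] at hz0
    have := fixDim_add_rank (1 : Matrix V4 V4 K)
    rw [sub_self, Matrix.rank_zero, hz0] at this
    simp at this
  have hord : orderOf z = 13 := orderOf_eq_prime hz13 hzne
  have hS : Nat.card (Subgroup.zpowers z) = 13 := by rw [Nat.card_zpowers, hord]
  have hindex : ¬ 13 ∣ (Subgroup.zpowers z).index := by
    have h := (Subgroup.zpowers z).index_mul_card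
    rw [hS, card_Y hK] at h
    have : (Subgroup.zpowers z).index = 2 ^ 12 * 3 ^ 4 * 7 ^ 2 := by norm_num at h ⊢; omega
    rw [this]
    norm_num
  obtain ⟨c, hc⟩ := conj_into (p := 13) (e := 1) (Subgroup.zpowers z) (by rw [hS, pow_one]) hindex x (k := 1)
    (by rw [pow_one, ← hx, pow_orderOf_eq_one])
  set s := c * x * c⁻¹ with hs
  have hxs : x = c⁻¹ * s * c := by rw [hs]; group
  rw [hxs, matY_conj, fixDim_conj]
  have hso : orderOf s = 13 := by
    rw [hs, ← MulAut.conj_apply, MulEquiv.orderOf_eq, hx]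
  have heq : Subgroup.zpowers s = Subgroup.zpowers z :=
    Subgroup.eq_of_le_of_card_ge (Subgroup.zpowers_le.2 hc) (by rw [hS, Nat.card_zpowers, hso])
  obtain ⟨j, hj⟩ : ∃ j : ℕ, s ^ j = z := by
    have : z ∈ Submonoid.powers s := mem_powers_iff_mem_zpowers.2 (heq ▸ Subgroup.mem_zpowers z)
    exact this
  exact fixDim_eq_zero_of_pow s j (by rw [hj]; exact hz0)

end Facts

end Cfsg.Agent.D4Spec69
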