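import Cfsg.Agent.D4Spec69.Local
import Cfsg.Agent.Spec4.Semi

/-!
`³D₄(2)` has the same element orders as arbitrarily large groups (helper69).
-/

set_option autoImplicit false

namespace Cfsg.Agent.D4Spec69

open Cfsg.Lie

theorem exists_root {K : Type*} [Field K] [Fintype K] [CharP K 2] (hK : Fintype.card K = 8) :
    ∃ α : K, α ^ 3 = α + 1 := by
  obtain ⟨u, hu0, hu1⟩ : ∃ u : K, u ≠ 0 ∧ u ≠ 1 := by
    by_contra h
    push Not at h
    classical
    have hle : (Finset.univ : Finset K) ⊆ {0, 1} := fun x _ => by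
      rcases eq_or_ne x 0 with e | e
      · simp [e]
      · simp [h x e]
    have := (Finset.card_le_card hle).trans Finset.card_le_two
    rw [Finset.card_univ, hK] at this
    omega
  have h7 : u ^ 7 = 1 := by
    have := FiniteField.pow_card_sub_one_eq_one u hu0
    rwa [hK] at this
  have h2 : (2 : K) = 0 := CharTwo.two_eq_zero
  have hprod : (u - 1) * ((u ^ 3 + u + 1) * (u ^ 3 + u ^ 2 + 1)) = 0 := by
    linear_combination h7 + (u ^ 4 - u ^ 3) * h2
  rcases mul_eq_zero.1 hprod with h | h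
  · exact absurd (sub_eq_zero.1 h) hu1
  rcases mul_eq_zero.1 h with h | h
  · exact ⟨u, by linear_combination h - (u + 1) * h2⟩
  · refine ⟨u⁻¹, ?_⟩
    field_simp
    linear_combination -h + h2

theorem odd_part_cases {m : ℕ} (hm : Odd m) (hdvd : m ∣ 2 ^ 12 * (3 ^ 4 * 7 ^ 2 * 13)) :
    13 ∣ m ∨ 9 ∣ m ∨ 49 ∣ m ∨ m = 1 ∨ m = 3 ∨ m = 7 ∨ m = 21 := by
  have h := Nat.Coprime.dvd_of_dvd_mul_left (Nat.Coprime.pow_right 12 (Nat.coprime_two_right.2 hm)) hdvd
  by_cases h13 : 13 ∣ m
  · exact Or.inl h13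
  have h' := Nat.Coprime.dvd_of_dvd_mul_right
    (((Nat.Prime.coprime_iff_not_dvd (by norm_num : Nat.Prime 13)).2 h13).symm) h
  obtain ⟨a, b, ha, hb, rfl⟩ := Nat.dvd_mul.1 h'
  obtain ⟨i, hi, rfl⟩ := (Nat.dvd_prime_pow Nat.prime_three).1 ha
  obtain ⟨j, hj, rfl⟩ := (Nat.dvd_prime_pow (by norm_num : Nat.Prime 7)).1 hb
  by_cases hi2 : 2 ≤ i
  · exact Or.inr (Or.inl (Dvd.dvd.mul_right (by rw [show 9 = 3 ^ 2 by norm_num]; exact pow_dvd_pow 3 hi2) _))
  by_cases hj2 : 2 ≤ j
  · exact Or.inr (Or.inr (Or.inl (Dvd.dvd.mul_left (by rw [show 49 = 7 ^ 2 by norm_num]; exact pow_dvd_pow 7 hj2) _)))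
  interval_cases i <;> interval_cases j <;> norm_num

theorem orderOf_of_code {G : Type*} [Group G] {x : G} {n : ℕ} (hn : 0 < n) (h : x ^ n = 1)
    (hp : ∀ p ∈ n.primeFactorsList, x ^ (n / p) ≠ 1) : orderOf x = n :=
  orderOf_eq_of_pow_and_pow_div_prime hn h fun p hp' hd =>
    hp p ((Nat.mem_primeFactorsList hn.ne').2 ⟨hp', hd⟩)

universe u

section Cases

variable {K : Type u} [Field K] [Fintype K] [CharP K 2] (hK : Fintype.card K = 8)
include hK

theorem exists_witness : ∀ n ∈ [8, 12, 28], ∃ y : ↥(Y K), orderOf y = n := by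
  obtain ⟨α, hα⟩ := exists_root hK
  have key : ∀ (w : List ℕ) (n : ℕ), 0 < n → (powC (wordC w) n == oneC) = true →
      (∀ p ∈ n.primeFactorsList, nonOne (powC (wordC w) (n / p)) = true) →
      ∃ y : ↥(Y K), orderOf y = n := by
    intro w n hn h1 hne
    refine ⟨wordY hα w, orderOf_of_code hn ?_ fun p hp e => ?_⟩
    · have h := rep_pow (rep_wordY hα w) n
      rw [beq_iff_eq.1 h1] at h
      exact matY_injective (by rw [map_pow, map_one]; exact h.unique Rep.one)
    · refine ne_one_of_code hα (rep_pow (rep_wordY hα w) (n / p)) (hne p hp) ?_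
      show matY (wordY hα w) ^ (n / p) = 1
      rw [← map_pow, e, map_one]
  have e8 := elt8
  have e12 := elt12
  have e28 := elt28
  simp only [Bool.and_eq_true] at e8 e12 e28
  intro n hn
  simp only [List.mem_cons, List.not_mem_nil, or_false] at hn
  rcases hn with rfl | rfl | rfl
  · refine key _ _ (by norm_num) e8.1 fun p hp => ?_
    obtain ⟨hp', hd⟩ := (Nat.mem_primeFactorsList (by norm_num)).1 hp
    obtain rfl : p = 2 := (Nat.prime_dvd_prime_iff_eq hp' Nat.prime_two).1
      (hp'.dvd_of_dvd_pow (show p ∣ 2 ^ 3 by norm_num; exact hd))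
    exact e8.2
  · refine key _ _ (by norm_num) e12.1.1 fun p hp => ?_
    obtain ⟨hp', hd⟩ := (Nat.mem_primeFactorsList (by norm_num)).1 hp
    rcases hp'.dvd_mul.1 (show p ∣ 2 ^ 2 * 3 by norm_num; exact hd) with h | h
    · obtain rfl : p = 2 := (Nat.prime_dvd_prime_iff_eq hp' Nat.prime_two).1 (hp'.dvd_of_dvd_pow h)
      exact e12.1.2
    · obtain rfl : p = 3 := (Nat.prime_dvd_prime_iff_eq hp' Nat.prime_three).1 h
      exact e12.2
  · refine key _ _ (by norm_num) e28.1.1 fun p hp => ?_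
    obtain ⟨hp', hd⟩ := (Nat.mem_primeFactorsList (by norm_num)).1 hp
    rcases hp'.dvd_mul.1 (show p ∣ 2 ^ 2 * 7 by norm_num; exact hd) with h | h
    · obtain rfl : p = 2 := (Nat.prime_dvd_prime_iff_eq hp' Nat.prime_two).1 (hp'.dvd_of_dvd_pow h)
      exact e28.1.2
    · obtain rfl : p = 7 := (Nat.prime_dvd_prime_iff_eq hp' (by norm_num)).1 h
      exact e28.2

/-- Either the geometric sum of `y` vanishes or there is an element of twice its order. -/
theorem sum_or_double (y : ↥(Y K)) :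
    (∑ i ∈ Finset.range (orderOf y), matY y ^ i = 0) ∨ ∃ z : ↥(Y K), orderOf z = 2 * orderOf y := by
  haveI : Finite ↥(Y K) := finite_Y
  obtain ⟨α, hα⟩ := exists_root hK
  obtain ⟨a, m, hm, hn⟩ := Nat.exists_eq_two_pow_mul_odd (orderOf_pos y).ne'
  have hmdvd : m ∣ 2 ^ 12 * (3 ^ 4 * 7 ^ 2 * 13) := by
    rw [← card_Y hK]
    exact (Dvd.intro_left _ hn.symm).trans (orderOf_dvd_natCard y)
  have hm0 : 0 < m := hm.pos
  set H := y ^ 2 ^ a with hH
  have hHo : orderOf H = m := by
    rw [hH, orderOf_pow_of_dvd (by positivity) (hn ▸ Dvd.intro m rfl), hn, Nat.mul_div_cancel_left _ (by positivity)]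
  have hkill : fixDim (matY H) ≤ 2 ^ a →
      (∑ i ∈ Finset.range (orderOf y), matY y ^ i = 0) := fun hle => by
    rw [hn]
    refine geom_sum_eq_zero (matY y) a m ?_ (even_fix y) ?_
    · rw [← hn, ← map_pow, pow_orderOf_eq_one, map_one]
    · rw [← map_pow]
      exact hle
  have hpow : ∀ q, q ∣ m → ∃ j : ℕ, orderOf (H ^ j) = q := fun q hq =>
    ⟨orderOf H / q, orderOf_pow_orderOf_div (orderOf_pos H).ne' (hHo.symm ▸ hq)⟩
  have hle : ∀ j : ℕ, fixDim (matY H) ≤ fixDim (matY (H ^ j)) := fun j => by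
    rw [map_pow]
    exact fixDim_le_pow _ j
  have hdouble : ∀ n ∈ [8, 12, 28], 2 * orderOf y ∣ n → ∃ z : ↥(Y K), orderOf z = 2 * orderOf y := by
    intro n hn' hd
    obtain ⟨w, hw⟩ := exists_witness hK n hn'
    exact KS58.exists_orderOf_eq_of_dvd w (hw.symm ▸ hd)
  have p3 : ∀ j : ℕ, orderOf (H ^ j) = 3 → fixDim (matY H) ≤ 4 := fun j hj => by
    refine (hle j).trans (three_facts hK hα (H ^ j) (k := 1) ?_ ?_).1
    · rw [pow_one, ← hj, pow_orderOf_eq_one]
    · intro e; rw [e, orderOf_one] at hj; omega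
  have p7 : ∀ j : ℕ, orderOf (H ^ j) = 7 → DiagGood (matY (H ^ j)) := fun j hj => by
    refine seven_facts hK hα (H ^ j) (k := 1) ?_ ?_
    · rw [pow_one, ← hj, pow_orderOf_eq_one]
    · intro e; rw [e, orderOf_one] at hj; omega
  have p7' : ∀ j : ℕ, orderOf (H ^ j) = 7 → fixDim (matY H) ≤ 2 := fun j hj =>
    (hle j).trans (p7 j hj).fixDim_le
  have hk1 : 1 ≤ 2 ^ a := Nat.one_le_two_pow
  rcases odd_part_cases hm hmdvd with h | h | h | h
  · obtain ⟨j, hj⟩ := hpow 13 h
    exact Or.inl (hkill (by have := hle j; have := thirteen_facts hK hα _ hj; omega))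
  · obtain ⟨j, hj⟩ := hpow 9 h
    refine Or.inl (hkill ?_)
    have h0 : fixDim (matY (H ^ j)) = 0 := by
      refine (three_facts hK hα (H ^ j) (k := 2) ?_ ?_).2 ?_
      · rw [show (3 : ℕ) ^ 2 = 9 by norm_num, ← hj, pow_orderOf_eq_one]
      · intro e; rw [e, orderOf_one] at hj; omega
      · intro e
        have := orderOf_dvd_of_pow_eq_one e
        rw [hj] at this
        norm_num at this
    have := hle j
    omega
  · exfalso
    obtain ⟨j, hj⟩ := hpow 49 h
    have hg : DiagGood (matY (H ^ j)) := by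
      refine seven_facts hK hα (H ^ j) (k := 2) ?_ ?_
      · rw [show (7 : ℕ) ^ 2 = 49 by norm_num, ← hj, pow_orderOf_eq_one]
      · intro e; rw [e, orderOf_one] at hj; omega
    have h7 : (H ^ j) ^ 7 = 1 := matY_injective (by rw [map_pow, map_one]; exact hg.pow_seven hK)
    have := orderOf_dvd_of_pow_eq_one h7
    rw [hj] at this
    norm_num at this
  rcases h with rfl | rfl | rfl | rfl
  · -- a 2-element
    by_cases ha : a ≤ 2
    · refine Or.inr (hdouble 8 (by simp) ?_)
      rw [hn]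
      interval_cases a <;> norm_num
    · refine Or.inl (hkill ?_)
      have h8 := fixDim_add_rank (matY H)
      rw [show Fintype.card V4 = 8 by simp] at h8
      have : 2 ^ 3 ≤ 2 ^ a := Nat.pow_le_pow_right (by norm_num) (by omega)
      omega
  · by_cases ha : a ≤ 1
    · refine Or.inr (hdouble 12 (by simp) ?_)
      rw [hn]
      interval_cases a <;> norm_num
    · refine Or.inl (hkill ?_)
      obtain ⟨j, hj⟩ := hpow 3 dvd_rfl
      have := p3 j hj
      have : 2 ^ 2 ≤ 2 ^ a := Nat.pow_le_pow_right (by norm_num) (by omega)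
      omega
  · by_cases ha : a ≤ 1
    · refine Or.inr (hdouble 28 (by simp) ?_)
      rw [hn]
      interval_cases a <;> norm_num
    · refine Or.inl (hkill ?_)
      obtain ⟨j, hj⟩ := hpow 7 dvd_rfl
      have := p7' j hj
      have : 2 ^ 2 ≤ 2 ^ a := Nat.pow_le_pow_right (by norm_num) (by omega)
      omega
  · refine Or.inl (hkill ?_)
    have hx7 : orderOf (H ^ 3) = 7 := by
      rw [orderOf_pow_of_dvd (by norm_num) (by rw [hHo]; norm_num), hHo]
    have hy3 : orderOf (H ^ 7) = 3 := by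
      rw [orderOf_pow_of_dvd (by norm_num) (by rw [hHo]; norm_num), hHo]
    have h2 := p7' 3 hx7
    rcases Nat.eq_zero_or_pos a with rfl | hpos
    swap
    · have : 2 ^ 1 ≤ 2 ^ a := Nat.pow_le_pow_right (by norm_num) hpos
      omega
    have hyH : H = y := by rw [hH, pow_zero, pow_one]
    obtain ⟨e, he⟩ := even_fix y
    have he' : fixDim (matY H) = e + e := by rw [hyH]; exact he
    by_contra hcon
    rw [pow_zero] at hcon
    have hx2 := (p7 3 hx7).fixDim_le
    have hxe : fixDim (matY (H ^ 3)) = fixDim (matY H) := le_antisymm (by omega) (hle 3)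
    have hsub : ∀ j : ℕ, LinearMap.ker ((matY H).mulVecLin - LinearMap.id) ≤
        LinearMap.ker ((matY (H ^ j)).mulVecLin - LinearMap.id) := fun j v hv => by
      simp only [LinearMap.mem_ker, LinearMap.sub_apply, Matrix.mulVecLin_apply, LinearMap.id_apply,
        sub_eq_zero] at hv ⊢
      rw [map_pow]
      induction j with
      | zero => simp
      | succ j ih => rw [pow_succ, ← Matrix.mulVec_mulVec, hv, ih]
    have heq := Submodule.eq_of_le_of_finrank_eq (hsub 3) hxe.symm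
    have hfix : fixDim (matY (H ^ 3)) ≠ 0 := by omega
    have hy1 : matY (H ^ 7) = 1 := by
      refine (p7 3 hx7).centraliser hK hfix ?_ ?_ (heq.ge.trans (hsub 7))
      · exact ((Commute.refl H).pow_pow 3 7).map matY
      · rw [← map_pow, ← hy3, pow_orderOf_eq_one, map_one]
    have : H ^ 7 = 1 := matY_injective (hy1.trans (map_one _).symm)
    rw [this, orderOf_one] at hy3
    omega

/-- **Arbitrarily large groups with the element orders of `³D₄(2)`.** -/
theorem exists_isospectral (N : ℕ) : ∃ (H : Type) (_ : Group H) (_ : Fintype H),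
    N < Fintype.card H ∧ Set.range (orderOf : H → ℕ) = Set.range (orderOf : ↥(twistedD4 K 2) → ℕ) := by
  haveI : Finite ↥(Y K) := finite_Y
  have hT : Set.range (orderOf : ↥(twistedD4 K 2) → ℕ) = Set.range (orderOf : ↥(Y K) → ℕ) := by
    ext n
    constructor
    · rintro ⟨g, rfl⟩
      exact ⟨(equivY K).symm g, MulEquiv.orderOf_eq _ g⟩
    · rintro ⟨g, rfl⟩
      exact ⟨equivY K g, MulEquiv.orderOf_eq _ g⟩
  rw [hT]
  -- transport the matrix group to `Type`
  haveI : Small.{0} K := ⟨Fin 8, ⟨(Fintype.equivFin K).trans (finCongr hK)⟩⟩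
  let φ : K ≃+* Shrink.{0} K := (Shrink.ringEquiv K).symm
  letI : Fintype (Shrink.{0} K) := Fintype.ofEquiv K φ.toEquiv
  haveI : CharP (Shrink.{0} K) 2 := charP_of_injective_ringHom (f := φ.toRingHom) φ.injective 2
  let ψ : ↥(Y K) →* GL V4 (Shrink.{0} K) :=
    ((RingHom.mapMatrix φ.toRingHom).toMonoidHom.comp matY).toHomUnits
  have hψ : Function.Injective ψ := fun g h e => by
    have h1 := congrArg (fun u : GL V4 (Shrink.{0} K) => (u : Matrix V4 V4 (Shrink.{0} K))) e
    exact matY_injective (Matrix.map_injective φ.injective h1)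
  haveI : Fact (Nat.Prime 2) := ⟨Nat.prime_two⟩
  refine Spec4.exists_family 2 ψ.range _ (fun {m n} hn hd => ?_) ?_ ?_ N
  · obtain ⟨g, rfl⟩ := hn
    exact KS58.exists_orderOf_eq_of_dvd g hd
  · rintro _ ⟨y, rfl⟩
    refine ⟨orderOf y, by rw [← map_pow, pow_orderOf_eq_one, map_one], ?_⟩
    rcases sum_or_double hK y with h | h
    · refine Or.inl ⟨⟨y, rfl⟩, ?_⟩
      have hval : (ψ y : Matrix V4 V4 (Shrink.{0} K)) = RingHom.mapMatrix φ.toRingHom (matY y) := rfl
      simp only [hval, ← map_pow (RingHom.mapMatrix φ.toRingHom), ← map_sum, h, map_zero]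
    · exact Or.inr h
  · rintro m ⟨y, rfl⟩
    exact Or.inl ⟨ψ y, ⟨y, rfl⟩, by rw [orderOf_injective ψ hψ]⟩

end Cases

end Cfsg.Agent.D4Spec69
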